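import Mathlib
import Cfsg.Agent.H29.HA.D0
import Cfsg.Agent.H29.HM133
import Cfsg.Agent.H29.Al

set_option autoImplicit false
set_option maxRecDepth 100000
set_option Elab.async false
set_option linter.all false

namespace H29.HA

open H19
noncomputable def xs : List ℕ := [a0, a1, a2, a3, a4, a5, a6, a7, a8, a9, a10]
noncomputable def lc : ℕ → ℕ := nth HM133.P.one xs
def ws : List (List ℕ) := [[3, 3, 5, 5, 4, 2, 2, 4, 6, 4, 3, 3, 4, 6, 2, 2], [3, 3, 5, 4, 2, 2, 4, 5, 4, 3, 3, 4, 6, 6, 2, 2], [1, 3, 3, 4, 6, 4, 2, 2, 4, 3, 3, 4, 6, 4, 2, 2, 1], [4, 6, 6, 4, 3, 3, 4, 2, 2, 4, 5, 5, 4], [4, 3, 3, 4, 1, 5, 4, 0, 2, 2, 4], [3, 3, 4, 1, 3, 3, 4, 6, 4, 2, 2, 4, 0, 2, 2], [6, 2, 2, 4, 0, 2, 2, 4, 3, 3, 4, 0, 5, 3, 3], [6, 2, 2, 4, 0, 3, 3, 4, 2, 2, 4, 0, 5, 3, 3], [6, 1, 3, 3,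 4, 3, 3, 4, 2, 2, 4, 2, 2, 0, 5], [6, 1, 3, 3, 4, 2, 2, 0, 5], [1, 3, 3, 0, 3, 3, 4, 5, 4, 2, 2, 0, 2, 2, 0]]
def E : List (List ℕ × List ℕ) := [([0, 1], []), ([2, 2], []), ([3, 3], []), ([4, 4], []), ([5, 5], []), ([6, 6], []), ([7, 7], []), ([8, 8], []), ([9, 9], []), ([10, 10], [])]
def G0 : List (List ℕ) := [[0, 0, 0], [0, 2, 0, 2, 0, 2], [0, 3, 0, 3], [0, 4, 0, 4], [0, 5, 0, 5], [0, 6, 0, 6], [0, 7, 0, 7], [0, 8, 0, 8], [0, 9, 0, 9]]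
def G1 : List (List ℕ) := [[0, 10, 0, 10], [2, 3, 2, 3, 2, 3], [2, 4, 2, 4], [2, 5, 2, 5], [2, 6, 2, 6], [2, 7, 2, 7], [2, 8, 2, 8], [2, 9, 2, 9], [2, 10, 2, 10]]
def G2 : List (List ℕ) := [[3, 4, 3, 4, 3, 4], [3, 5, 3, 5], [3, 6, 3, 6], [3, 7, 3, 7], [3, 8, 3, 8], [3, 9, 3, 9], [3, 10, 3, 10], [4, 5, 4, 5, 4, 5], [4, 6, 4, 6]]
def G3 : List (List ℕ) := [[4, 7, 4, 7], [4, 8, 4, 8], [4, 9, 4, 9], [4, 10, 4, 10], [5, 6, 5, 6, 5, 6], [5, 7, 5, 7], [5, 8, 5, 8], [5, 9, 5, 9], [5, 10, 5, 10]]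
def G4 : List (List ℕ) := [[6, 7, 6, 7, 6, 7], [6, 8, 6, 8], [6, 9, 6, 9], [6, 10, 6, 10], [7, 8, 7, 8, 7, 8], [7, 9, 7, 9], [7, 10, 7, 10], [8, 9, 8, 9, 8, 9]]
def G5 : List (List ℕ) := [[8, 10, 8, 10], [9, 10, 9, 10, 9, 10]]

end H29.HA
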