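import Mathlib
import Cfsg.Agent.H29.HA.B

set_option autoImplicit false
set_option maxRecDepth 100000
set_option Elab.async false
set_option linter.all false

namespace H29.HA

open H19
theorem c0 : chkW HM133.P.mul HM133.P.one HM133.lc ws xs 0 = true := by decide +kernel

theorem c1 : chkW HM133.P.mul HM133.P.one HM133.lc ws xs 1 = true := by decide +kernel

theorem c2 : chkW HM133.P.mul HM133.P.one HM133.lc ws xs 2 = true := by decide +kernel

theorem c3 : chkW HM133.P.mul HM133.P.one HM133.lc ws xs 3 = true := by decide +kernel

theorem c4 : chkW HM133.P.mul HM133.P.one HM133.lc ws xs 4 = true := by decide +kernel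

theorem c5 : chkW HM133.P.mul HM133.P.one HM133.lc ws xs 5 = true := by decide +kernel

theorem c6 : chkW HM133.P.mul HM133.P.one HM133.lc ws xs 6 = true := by decide +kernel

theorem c7 : chkW HM133.P.mul HM133.P.one HM133.lc ws xs 7 = true := by decide +kernel

theorem c8 : chkW HM133.P.mul HM133.P.one HM133.lc ws xs 8 = true := by decide +kernel

theorem c9 : chkW HM133.P.mul HM133.P.one HM133.lc ws xs 9 = true := by decide +kernel

theorem c10 : chkW HM133.P.mul HM133.P.one HM133.lc ws xs 10 = true := by decide +kernel

theorem hE : chkEqs HM133.P.mul HM133.P.one lc E = true := by decide +kernel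

theorem hne : Nat.beq (lc 0) HM133.P.one = false := by decide +kernel

end H29.HA
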