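import Mathlib
import Cfsg.Agent.H29.HA.B

set_option autoImplicit false
set_option maxRecDepth 100000
set_option Elab.async false
set_option linter.all false

namespace H29.HA

open H19
theorem r0 : chkRelC HM133.P.mul HM133.P.one lc (ivOf [1, 0]) G0 = true := by decide +kernel

theorem r1 : chkRelC HM133.P.mul HM133.P.one lc (ivOf [1, 0]) G1 = true := by decide +kernel

theorem r2 : chkRelC HM133.P.mul HM133.P.one lc (ivOf [1, 0]) G2 = true := by decide +kernel

theorem r3 : chkRelC HM133.P.mul HM133.P.one lc (ivOf [1, 0]) G3 = true := by decide +kernel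

theorem r4 : chkRelC HM133.P.mul HM133.P.one lc (ivOf [1, 0]) G4 = true := by decide +kernel

theorem r5 : chkRelC HM133.P.mul HM133.P.one lc (ivOf [1, 0]) G5 = true := by decide +kernel

end H29.HA
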